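import Cfsg.Agent.Lib.Comp.LyP.T03

set_option maxRecDepth 100000
set_option Elab.async false

namespace Cfsg.Lib.Comp.LyP

universe u

theorem T0_fin : finB 4096 nets [1,2,3,4,5,6,7,8,9,10,11,12,13,14,15,16,17,18,19,20,21,22] 3906 (runH 4096 nets (tbk 12 4 prs12 nets 1024) iv T0_R [] ([1,2,3,4,5,6,11,12,13,14,15,16,17,18,19,20,21,22].map fun x => [x]) 0 []
  (apd [4,12,16,20,24,28,32,36,44,48,52,56,60,64,68,72,76,80,84,88,92,96,100,104,112,116,120,124,128,136,144,152,156,160,164,168,172,176,180,184,188,192,196,200,204,208,212,216,220,0,4,8,12,16,20,24,28,32,36,40]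
 (apd [44,48,52,56,60,64,68,72,76,80,84,88,92,96,100,104,112,116,120,124,128,136,144,152,156,160,164,168,172,176,180,184,188,192,196,200,204,208,212,216,220,0,4,8,12,16,20,24,28,32,36,40,44,48,52,56,60,64,68,72]
 (apd [76,80,84,88,92,96,100,104,112,116,120,124,128,136,144,152,156,160,164,168,172,176,180,184,188,192,196,200,204,208,212,216,220,0,4,8,12,16,20,24,28,32,36,40,44,48,52,56,60,64,68,72,76,80,84,88,92,96,100,104]
 (apd [112,116,120,124,128,136,144,152,156,160,164,168,172,176,180,184,188,192,196,200,204,208,212,216,220,0,4,8,12,16,20,24,28,32,36,40,44,48,52,56,60,64,68,72,76,80,84,88,92,96,100,104,112,116,120,124,128,136,144,152]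
 (apd [156,160,164,168,172,176,180,184,188,192,196,200,204,208,212,216,220,0,4,8,12,16,20,24,28,32,36,40,44,48,52,56,60,64,68,72,76,80,84,88,92,96,100,104,112,116,120,124,128,136,144,152,156,160,164,168,172,176,180,184]
 (apd [188,192,196,200,204,208,212,216,220,0,4,8,12,16,20,24,28,32,36,40,44,48,52,56,60,64,68,72,76,80,84,88,92,96,100,104,112,116,120,124,128,136,144,152,156,160,164,168,172,176,180,184,188,192,196,200,204,208,212,216]
 (apd [220,0,4,8,12,20,24,28,32,36,40,44,48,52,56,60,64,68,72,76,80,84,88,92,96,100,104,112,116,120,124,128,136,144,152,156,160,164,168,172,176,180,184,188,192,196,200,204,208,212,216,220,0,4,8,12,16,20,24,28]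
 (apd [32,36,44,48,52,56,60,64,68,72,76,80,84,88,92,96,100,104,112,116,120,124,128,136,144,152,156,160,164,168,172,176,180,184,188,192,196,200,204,208,212,216,220,4,8,12,16,20,24,28,32,36,40,44,48,52,56,60,64,68]
 (apd [72,76,80,84,88,92,96,100,104,112,116,120,124,128,136,144,152,156,160,164,168,172,176,184,188,192,196,204,216,220,4,8,12,16,20,24,28,32,36,40,44,48,52,56,60,64,68,72,76,80,84,88,92,96,100,104,116,120,124,128]
 (apd [136,144,152,156,160,164,168,172,176,180,184,188,192,196,200,204,208,212,216,220,0,4,8,12,16,20,24,28,32,36,40,44,48,52,56,60,64,68,72,76,80,84,88,92,96,100,104,112,116,120,124,128,144,152,156,160,164,168,172,176]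
 (apd [180,184,188,192,204,212,216,220,4,8,12,16,20,24,28,32,36,44,48,52,56,60,64,68,72,76,80,84,92,96,104,116,120,124,128,144,152,156,160,164,168,172,176,184,192,216,220,4,8,12,16,20,24,28,32,36,44,48,52,56]
 (apd [60,64,68,72,76,80,84,88,92,96,100,104,116,120,124,128,144,152,156,160,164,168,172,176,180,184,192,204,212,216,220,4,8,12,16,20,24,28,32,36,44,48,52,56,60,64,68,72,76,80,84,88,96,100,116,120,152,156,160,172]
 (apd [176,184,216,220,4,8,12,16,20,24,28,32,36,44,48,52,56,60,64,68,72,76,80,84,88,96,100,116,120,152,156,172,176,184,216,220,4,8,12,20,24,28,32,36,44,48,52,56,60,64,68,80,96,100,116,128,152,156,160,164]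
 (apd [172,176,184,216,220,8,12,16,20,24,28,32,36,44,48,52,56,60,64,68,72,76,80,84,88,92,96,100,104,116,120,124,128,144,152,156,160,164,168,172,176,184,188,204,212,216,220,4,8,12,16,20,24,28,32,36,44,48,52,56]
 [60,64,68,80,84,116,152,156,172,176,184,216,220,4,8,12,16,20,24,28,32,36,44,48,52,56,60,68,80,116,152,156,172,176,184,216,220,4,8,12,20,24,28,32,36,44,48,52,56,80,116,152,156,172,176,216,220,148,116]))))))))))))))
  T0_K2) = true := by decide +kernel

theorem T0_idx : Idx.{u} iv (T0_R ++ []) ([1,2,3,4,5,6,11,12,13,14,15,16,17,18,19,20,21,22].map fun x => [x]) [1,2,3,4,5,6,7,8,9,10,11,12,13,14,15,16,17,18,19,20,21,22] 3906 :=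
  Reach.idx nets_ok (reach_runH nets_ok (tbk_eq tr12 (by norm_num) (by norm_num) (by norm_num) nets_ok) nets_rel_T0 T0_K2_reach _ _) T0_fin (by norm_num)

end Cfsg.Lib.Comp.LyP
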